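import Mathlib
import Cfsg.Agent.H459.Inv.Base
import Cfsg.Agent.H459.CycFalse
import Cfsg.Agent.H509.CycBlock

/-!
# Involutions generating a non-solvable group with an element of prime order (helper459, S3830): tools

* `ns_of_simple` : `x` acts non-trivially on a proper invariant simple subgroup; `ns_of_mem_simple` : inner form;
* `ns_of_sylow_cyclic` : cyclic Sylow `p`-subgroups: one element of order `p` is enough; `ns_of_simple_dvd`;
* `ns_of_odd_index` : cyclic Sylow `p`-subgroups, `|N(⟨x⟩) : C(x)|` odd (blocks of cyclic defect);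
* `RCO x` : `x` acts trivially on `M / Rad M` if `M` is proper, invariant and `|Rad M|` is odd.
-/

set_option autoImplicit false
set_option linter.unusedSectionVars false

namespace Cfsg.Agent.H459.Inv

open Cfsg Subgroup Cfsg.Agent.H459.Rad Cfsg.Agent.SignalizersComponents.ComponentExists

universe u

/-- `x` acts trivially on `M / Rad M` for the proper invariant subgroups `M` with a radical of odd order -/
def RCO {K : Type*} [Group K] [Finite K] (x : MulAut K) : Prop :=
  ∀ M : Subgroup K, M ≠ ⊤ → (∀ m ∈ M, x m ∈ M) → Odd (Nat.card (solvableRadical M)) → ∀ m ∈ M, m⁻¹ * x m ∈ radIn M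

section Restrict

variable {K : Type*} [Group K] [Finite K]

/-- the restriction of an automorphism to an invariant subgroup -/
noncomputable def res (x : MulAut K) {M : Subgroup K} (hM : ∀ m ∈ M, x m ∈ M) : MulAut M :=
  MulEquiv.ofBijective
    ((x.toMonoidHom.comp M.subtype).codRestrict M (fun m => hM m m.2))
    (Finite.injective_iff_bijective.1 fun a b hab => Subtype.ext (x.injective (congrArg Subtype.val hab)))

theorem res_apply (x : MulAut K) {M : Subgroup K} (hM : ∀ m ∈ M, x m ∈ M) (m : M) : (res x hM m : K) = x m := rfl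

theorem res_pow (x : MulAut K) {M : Subgroup K} (hM : ∀ m ∈ M, x m ∈ M) (n : ℕ) (m : M) :
    ((res x hM ^ n) m : K) = (x ^ n) m := by
  induction n with
  | zero => rfl
  | succ n ih => rw [pow_succ', pow_succ', MulAut.mul_apply, MulAut.mul_apply, res_apply, ih]

theorem orderOf_res {x : MulAut K} {M : Subgroup K} (hM : ∀ m ∈ M, x m ∈ M) {p : ℕ} [Fact p.Prime] (hx : orderOf x = p)
    (hne : ∃ m ∈ M, x m ≠ m) : orderOf (res x hM) = p := by
  apply orderOf_eq_prime
  · ext m
    rw [res_pow, ← hx, pow_orderOf_eq_one]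
    rfl
  · intro h
    obtain ⟨m, hm, hne⟩ := hne
    apply hne
    have h1 := res_apply x hM ⟨m, hm⟩
    rw [h] at h1
    exact h1.symm

theorem ns_of_res {x : MulAut K} {M : Subgroup K} (hM : ∀ m ∈ M, x m ∈ M) (h : NS (res x hM)) : NS x := by
  obtain ⟨y, hy, hn⟩ := ns_iff.1 h
  exact ns_of_hom hM (MonoidHom.id M) (res x hM) (fun m => rfl) hy hn

end Restrict

section Simple

variable {K : Type u} [Group K] [Finite K] {p : ℕ} [hp : Fact p.Prime]

/-- **`x` acts non-trivially on a proper simple subgroup.** -/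
theorem ns_of_simple (hI : IH.{u} p (Nat.card K)) {x : MulAut K} (hx : orderOf x = p) {S : Subgroup K}
    [IsSimpleGroup S] (hna : ¬ IsMulCommutative S) (hS : S ≠ ⊤) (hxS : ∀ s ∈ S, x s ∈ S) (hne : ∃ s ∈ S, x s ≠ s) :
    NS x := by
  refine ns_of_res hxS (hI S hna ?_ _ (orderOf_res hxS hx hne))
  have h1 := Subgroup.card_le_card_group S
  refine lt_of_le_of_ne h1 fun h2 => hS ?_
  exact Subgroup.eq_top_of_card_eq S h2

/-- the inner form -/
theorem ns_of_mem_simple (hI : IH.{u} p (Nat.card K)) {g : K} (hg : orderOf g = p) {S : Subgroup K} [IsSimpleGroup S]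
    (hna : ¬ IsMulCommutative S) (hS : S ≠ ⊤) (hgS : g ∈ S) : NS (MulAut.conj g) := by
  have hcard : Nat.card S < Nat.card K := by
    refine lt_of_le_of_ne (Subgroup.card_le_card_group S) fun h2 => hS ?_
    exact Subgroup.eq_top_of_card_eq S h2
  have hinj := CycFalse.conj_injective (K := S) (CycFalse.center_eq_bot hna)
  have h1 : orderOf (MulAut.conj (⟨g, hgS⟩ : S)) = p := by
    rw [orderOf_injective _ hinj, Subgroup.orderOf_mk, hg]
  obtain ⟨y, hy, hn⟩ := ns_inner_iff.1 (hI S hna hcard _ h1)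
  refine ns_of_inner (y := (y : K)) (by rw [Subgroup.orderOf_coe]; exact hy) fun hs => hn ?_
  have h2 : (closure ({(⟨g, hgS⟩ : S), y} : Set S)).map S.subtype = closure ({g, (y : K)} : Set K) := by
    rw [MonoidHom.map_closure, Set.image_pair]
    rfl
  rw [← h2] at hs
  exact Group.isSolvable_of_isSolvable_injective
    (f := ((closure ({(⟨g, hgS⟩ : S), y} : Set S)).equivMapOfInjective _ S.subtype_injective).toMonoidHom)
    ((closure ({(⟨g, hgS⟩ : S), y} : Set S)).equivMapOfInjective _ S.subtype_injective).injective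

end Simple

section Cyclic

variable {K : Type*} [Group K] [Finite K] {p : ℕ} [hp : Fact p.Prime]

/-- elements of order `p` are conjugate to powers of each other -/
theorem conj_zpowers (hc : ∀ P : Sylow p K, IsCyclic (P : Subgroup K)) {u y : K} (hu : orderOf u = p)
    (hy : orderOf y = p) : ∃ g : K, u ∈ zpowers (g * y * g⁻¹) := by
  have hpu : IsPGroup p (zpowers u) := IsPGroup.of_card (n := 1) (by rw [Nat.card_zpowers, hu, pow_one])
  have hpy : IsPGroup p (zpowers y) := IsPGroup.of_card (n := 1) (by rw [Nat.card_zpowers, hy, pow_one])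
  obtain ⟨P, hPu⟩ := hpu.exists_le_sylow
  obtain ⟨R, hRy⟩ := hpy.exists_le_sylow
  obtain ⟨g, hg⟩ := MulAction.exists_smul_eq K R P
  have h1 : g * y * g⁻¹ ∈ (P : Subgroup K) := by
    rw [← hg, Sylow.coe_subgroup_smul]
    exact ⟨y, hRy (mem_zpowers y), rfl⟩
  have hc := hc P
  have ho : orderOf (g * y * g⁻¹) = p := by
    rw [← hy]
    exact orderOf_injective (MulAut.conj g).toMonoidHom (MulAut.conj g).injective y
  have ho' : orderOf (⟨g * y * g⁻¹, h1⟩ : (P : Subgroup K)) = p := by rw [Subgroup.orderOf_mk, ho]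
  have hu' : (⟨u, hPu (mem_zpowers u)⟩ : (P : Subgroup K)) ^ p = 1 := by
    apply Subtype.ext
    show u ^ p = 1
    rw [← hu, pow_orderOf_eq_one]
  obtain ⟨n, hn⟩ := CycFalse.mem_zpowers_of_cyclic hp.out.pos ho' hu'
  exact ⟨g, n, congrArg Subtype.val hn⟩

/-- **Cyclic Sylow `p`-subgroups: one element of order `p` is enough.** -/
theorem ns_of_sylow_cyclic (hc : ∀ P : Sylow p K, IsCyclic (P : Subgroup K)) {g g' : K} (hg : orderOf g = p)
    (hg' : orderOf g' = p) (h : NS (MulAut.conj g')) : NS (MulAut.conj g) := by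
  obtain ⟨k, n, hn⟩ := conj_zpowers hc hg' hg
  -- `g' = (k g k⁻¹) ^ n`
  have h1 : (k * g * k⁻¹) ^ n = g' := hn
  obtain ⟨m, hm⟩ : ∃ m : ℕ, (k * g * k⁻¹) ^ m = g' := by
    have h2 : g' ∈ Submonoid.powers (k * g * k⁻¹) := mem_powers_iff_mem_zpowers.2 ⟨n, h1⟩
    exact h2
  have h2 : MulAut.conj k * (MulAut.conj g) ^ m * (MulAut.conj k)⁻¹ = MulAut.conj g' := by
    rw [← hm, conj_pow, map_mul, map_mul, map_inv, map_pow]
  refine ns_of_pow (k := m) (ns_of_conj (g := MulAut.conj k) ?_)
  rw [h2]
  exact h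

theorem isCyclic_congr (P : Sylow p K) (hP : IsCyclic (P : Subgroup K)) (Q : Sylow p K) : IsCyclic (Q : Subgroup K) :=
  isCyclic_of_surjective (P.equiv Q) (P.equiv Q).surjective

/-- Sylow subgroups of order `p` are cyclic -/
theorem cyclic_of_sq (h : ¬ p ^ 2 ∣ Nat.card K) (P : Sylow p K) : IsCyclic (P : Subgroup K) := by
  obtain ⟨n, hn⟩ := IsPGroup.iff_card.1 P.isPGroup'
  have h1 : n < 2 := by
    by_contra h2
    push Not at h2
    exact h ((pow_dvd_pow p h2).trans (hn ▸ Subgroup.card_subgroup_dvd_card _))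
  interval_cases n
  · rw [pow_zero] at hn
    have := card_eq_one.1 hn
    rw [this]
    infer_instance
  · rw [pow_one] at hn
    exact isCyclic_of_prime_card hn

/-- **Cyclic Sylow `p`-subgroups, `|N(⟨x⟩) : C(x)|` odd**: any involution `y` has a conjugate generating a non-solvable
group with `x`. -/
theorem ns_of_odd_index {K : Type u} [Group K] [Finite K] [IsSimpleGroup K] (hna : ¬ IsMulCommutative K)
    (P : Sylow p K) (hP : IsCyclic (P : Subgroup K)) (hp2 : p ≠ 2) {g : K} (hg : orderOf g = p)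
    (h2 : 2 ∣ Nat.card K) (hodd : Odd ((centralizer ({g} : Set K)).relIndex (normalizer ((zpowers g : Subgroup K) : Set K)))) :
    NS (MulAut.conj g) := by
  have : Fact (Nat.Prime 2) := ⟨Nat.prime_two⟩
  obtain ⟨y, hy⟩ := exists_prime_orderOf_dvd_card' 2 h2
  by_contra hcon
  have h1 := Cfsg.Agent.H509.CycBlock.order_dvd_of_solvable_pairs hna P hP hg (y := y)
    (by rw [hy]; exact (Nat.coprime_primes Nat.prime_two hp.out).2 hp2.symm) (fun k => by
      by_contra hs
      apply hcon
      refine ns_of_inner (y := k * y * k⁻¹) ?_ hs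
      rw [← hy]
      exact orderOf_injective (MulAut.conj k).toMonoidHom (MulAut.conj k).injective y)
  have h3 := orderOf_dvd_of_pow_eq_one h1
  rw [hy] at h3
  exact (Nat.not_even_iff_odd.2 hodd) (even_iff_two_dvd.2 h3)

end Cyclic

/-- **A proper simple subgroup of order divisible by `p`, cyclic Sylow `p`-subgroups.** -/
theorem ns_of_simple_dvd {K : Type u} [Group K] [Finite K] {p : ℕ} [hp : Fact p.Prime]
    (hI : IH.{u} p (Nat.card K)) (hc : ∀ P : Sylow p K, IsCyclic (P : Subgroup K)) {S : Subgroup K} [IsSimpleGroup S]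
    (hna : ¬ IsMulCommutative S) (hS : S ≠ ⊤) (hdvd : p ∣ Nat.card S) {g : K} (hg : orderOf g = p) :
    NS (MulAut.conj g) := by
  obtain ⟨s, hs⟩ := exists_prime_orderOf_dvd_card' p hdvd
  have hs' : orderOf (s : K) = p := by rw [Subgroup.orderOf_coe]; exact hs
  exact ns_of_sylow_cyclic hc hg hs' (ns_of_mem_simple hI hs' hna hS s.2)

end Cfsg.Agent.H459.Inv
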