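import Cfsg.Agent.H459.Inv.Par
import Cfsg.Agent.H459.Inv.Vfour
import Cfsg.Agent.H459.NonFixLie
import Cfsg.Agent.H328.Inv.PslTwo
import Cfsg.Agent.H880.Inv.PsuTwo
import Cfsg.Agent.H803.Inv.RowsTwo
import Cfsg.Agent.H724.Inv.InnerTwo
import Cfsg.Agent.H153.ExcRows
import Cfsg.Agent.H979.LieSplit
import Cfsg.Agent.H580.LieBad

/-!
# Characteristic two, rank at least two (helper459, S3830)

* `irow_two` : `IRow p K` for the groups of Lie type of characteristic two and rank at least two (but `²F₄(q)`).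
-/

set_option autoImplicit false
set_option linter.unusedSectionVars false

namespace Cfsg.Agent.H459.Inv.LieTwo

open Cfsg Subgroup Cfsg.Agent.H459.Rad Cfsg.Agent.H459.Inv Cfsg.Agent.H459.NonFix Cfsg.Agent.H459.NonFixLie
open Cfsg.Agent.H459.Iface

universe u

theorem two_dvd {K : Type u} [Group K] [Finite K] [IsSimpleGroup K] (h : IsLieTypeChar 2 K) : 2 ∣ Nat.card K := by
  have : Fact (Nat.Prime 2) := ⟨Nat.prime_two⟩
  obtain ⟨P, U, ⟨s, hs⟩, hU⟩ := Cfsg.Agent.H979.LieSplit.hasSplit_of_isLieTypeChar Nat.prime_two h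
  exact Cfsg.Agent.H580.LieBad.dvd_card hU hs

/-- exceptional groups -/
theorem nfix_exc {K : Type u} [Group K] [Finite K] [IsSimpleGroup K] (hna : ¬ IsMulCommutative K) {p : ℕ}
    [hp : Fact p.Prime] (hp5 : 5 ≤ p) (h : IsExceptionalChevChar 2 K ∨ IsTwistedE6D4Char 2 K)
    (hI : IH.{u} p (Nat.card K)) (hF : Sec.Five.{u}) : ∀ x : MulAut K, orderOf x = p → ¬ FixR 2 x → NS x := by
  intro x hx hfix
  have : Fact (Nat.Prime 2) := ⟨Nat.prime_two⟩
  by_contra hns
  have hout : FixR 2 x ∨ ∃ y : K, x = MulAut.conj y := by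
    rcases h with h | h
    · exact H153.Exc.out_chev h hp5 x hx
    · exact H153.Exc.out_twisted h hp5 x hx
  rcases hout with h1 | ⟨y, rfl⟩
  · exact hfix h1
  have hL : IsLieTypeChar 2 K := by
    rcases h with h | h
    · exact Or.inr (Or.inr (Or.inr (Or.inr (Or.inr (Or.inr (Or.inl h))))))
    · exact Or.inr (Or.inr (Or.inr (Or.inr (Or.inr (Or.inr (Or.inr (Or.inl h)))))))
  have hy : orderOf y = p := by
    rw [← hx]
    exact (orderOf_injective (MulAut.conj : K →* MulAut K) (CycFalse.conj_injective (CycFalse.center_eq_bot hna)) y).symm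
  have hR := Sec.rco_of_not_ns hI hF hp5 hx hns
  rcases Cfsg.Agent.H724.Inv.InnerTwo.inner_two h hp.out hp5 hy hR with h1 | h1
  · exact hfix h1
  · refine hns (Vfour.ns_of_vfour hna h1 hy (two_dvd hL) fun R hR2 hinv => ?_)
    by_contra hne
    exact hfix ⟨R, hne, hR2, hinv⟩

/-- **Characteristic two, rank at least two.** -/
theorem irow_two {K : Type u} [Group K] [Finite K] [IsSimpleGroup K] (hna : ¬ IsMulCommutative K) {p : ℕ}
    [hp : Fact p.Prime] (hp5 : 5 ≤ p) (hB : IsBig 2 K) (hI : IH.{u} p (Nat.card K)) (hF : Sec.Five.{u}) :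
    IRow p K := by
  have : Fact (Nat.Prime 2) := ⟨Nat.prime_two⟩
  intro x hx
  by_cases hfix : FixR 2 x
  · exact Par.ns_of_fixR (hasFiltE_of_isBig hB)
      (solvable_of_splitAb (H716.SplitAb.hasSplitAb_of_lie Nat.prime_two (isLieTypeChar_of_isBig hB))) hp5 hI hF hx hfix
  rcases hB with h | h | h | h | h | h | h | h
  · obtain ⟨F, _, _, _, n, hn, e⟩ := h
    exact Cfsg.Agent.H328.Inv.nfix_psl_two hn e hp5 hI x hx hfix
  · exact Cfsg.Agent.H803.Inv.nfix_psp_two h hp5 x hx hfix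
  · obtain ⟨F, _, _, _, n, q, hF, hn, e⟩ := h
    exact Cfsg.Agent.H880.Inv.nfix_psu_two hF hn e hp5 hI x hx hfix
  · exfalso
    obtain ⟨F, _, _, _, m, hm, hodd, -⟩ := h
    obtain ⟨k, -, hk⟩ := FiniteField.card F 2
    rw [hk] at hodd
    exact Nat.not_odd_iff_even.2 ((Nat.even_pow' k.ne_zero).2 even_two) hodd
  · exact Cfsg.Agent.H803.Inv.nfix_omega_two (Or.inl h) hp5 x hx hfix
  · exact Cfsg.Agent.H803.Inv.nfix_omega_two (Or.inr h) hp5 x hx hfix
  · exact nfix_exc hna hp5 (Or.inl h) hI hF x hx hfix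
  · exact nfix_exc hna hp5 (Or.inr h) hI hF x hx hfix

end Cfsg.Agent.H459.Inv.LieTwo
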